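import Mathlib
import Groth.Agent.FlatCrit65.Basic
import Groth.Agent.TorMod7.Basic
import Groth.Agent.TorBal94.FirstVariable

/-!
Vanishing of higher Tor groups, expressed as injectivity of syzygy inclusions after tensoring,
and the criterion of flatness by localisations and a quotient.
-/

set_option autoImplicit false
universe u

open TensorProduct CategoryTheory CategoryTheory.Limits

namespace Groth.Agent.FlatTor3

variable {A : Type u} [CommRing A]
variable {K' P K N₁ N₂ N₃ : Type u} [AddCommGroup K'] [Module A K'] [AddCommGroup P] [Module A P]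
  [AddCommGroup K] [Module A K] [AddCommGroup N₁] [Module A N₁] [AddCommGroup N₂] [Module A N₂]
  [AddCommGroup N₃] [Module A N₃]

theorem comm (a : K' →ₗ[A] P) (g : N₁ →ₗ[A] N₂) (x : K' ⊗[A] N₁) :
    g.lTensor P (a.rTensor N₁ x) = a.rTensor N₂ (g.lTensor K' x) := by
  simp only [← LinearMap.comp_apply, LinearMap.lTensor_comp_rTensor, LinearMap.rTensor_comp_lTensor]

variable (a : K' →ₗ[A] P) (b : P →ₗ[A] K) (g : N₁ →ₗ[A] N₂) (h : N₂ →ₗ[A] N₃)

theorem rTensor_injective_middle [Module.Flat A P] (hg : Function.Injective g)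
    (hgh : Function.Exact g h) (hh : Function.Surjective h) (h1 : Function.Injective (a.rTensor N₁))
    (h3 : Function.Injective (a.rTensor N₃)) : Function.Injective (a.rTensor N₂) := by
  rw [injective_iff_map_eq_zero]
  intro x hx
  have : h.lTensor K' x = 0 := h3 (by rw [← comm, hx, map_zero, map_zero])
  obtain ⟨y, rfl⟩ := (lTensor_exact K' hgh hh x).mp this
  have : a.rTensor N₁ y = 0 := Module.Flat.lTensor_preserves_injective_linearMap (M := P) g hg
    (by rw [comm, hx, map_zero])
  rw [h1 (this.trans (map_zero _).symm), map_zero]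

theorem lTensor_injective_of_rTensor [Module.Flat A P] (hab : Function.Exact a b)
    (hb : Function.Surjective b) (hg : Function.Injective g) (hgh : Function.Exact g h)
    (hh : Function.Surjective h) (h3 : Function.Injective (a.rTensor N₃)) :
    Function.Injective (g.lTensor K) := by
  rw [injective_iff_map_eq_zero]
  intro y hy
  obtain ⟨z, rfl⟩ := LinearMap.rTensor_surjective N₁ hb y
  have hz : b.rTensor N₂ (g.lTensor P z) = 0 := by rw [← comm, hy]
  obtain ⟨w, hw⟩ := (rTensor_exact N₂ hab hb _).mp hz
  have : h.lTensor K' w = 0 := h3 (by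
    rw [← comm, hw, map_zero, ← LinearMap.lTensor_comp_apply, hgh.linearMap_comp_eq_zero,
      LinearMap.lTensor_zero, LinearMap.zero_apply])
  obtain ⟨w₁, rfl⟩ := (lTensor_exact K' hgh hh w).mp this
  rw [← comm] at hw
  rw [← Module.Flat.lTensor_preserves_injective_linearMap (M := P) g hg hw,
    ← LinearMap.rTensor_comp_apply, hab.linearMap_comp_eq_zero, LinearMap.rTensor_zero,
    LinearMap.zero_apply]

theorem rTensor_injective_right (hab : Function.Exact a b)
    (hb : Function.Surjective b) (hgh : Function.Exact g h)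
    (hh : Function.Surjective h) (h2 : Function.Injective (a.rTensor N₂))
    (h1 : Function.Injective (g.lTensor K)) : Function.Injective (a.rTensor N₃) := by
  rw [injective_iff_map_eq_zero]
  intro x hx
  obtain ⟨w, rfl⟩ := LinearMap.lTensor_surjective K' hh x
  rw [← comm] at hx
  obtain ⟨z, hz⟩ := (lTensor_exact P hgh hh _).mp hx
  have : b.rTensor N₁ z = 0 := h1 (by
    rw [comm, hz, map_zero, ← LinearMap.rTensor_comp_apply, hab.linearMap_comp_eq_zero,
      LinearMap.rTensor_zero, LinearMap.zero_apply])
  obtain ⟨w₁, rfl⟩ := (rTensor_exact N₁ hab hb _).mp this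
  rw [comm] at hz
  rw [← h2 hz, ← LinearMap.lTensor_comp_apply, hgh.linearMap_comp_eq_zero, LinearMap.lTensor_zero,
    LinearMap.zero_apply]

theorem rTensor_injective_finsupp (σ : Type u) (h1 : Function.Injective (a.rTensor N₁)) :
    Function.Injective (a.rTensor (σ →₀ N₁)) := by
  classical
  have : (finsuppRight A A P N₁ σ).toLinearMap ∘ₗ a.rTensor (σ →₀ N₁) =
      Finsupp.mapRange.linearMap (a.rTensor N₁) ∘ₗ (finsuppRight A A K' N₁ σ).toLinearMap := by
    ext k s n t
    by_cases hst : s = t <;> simp [hst]
  refine Function.Injective.of_comp (f := (finsuppRight A A P N₁ σ)) ?_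
  have hi := (Finsupp.mapRange_injective _ (map_zero (a.rTensor N₁)) h1).comp
    (finsuppRight A A K' N₁ σ).injective
  rw [show ⇑(finsuppRight A A P N₁ σ) ∘ ⇑(a.rTensor (σ →₀ N₁)) = ⇑((finsuppRight A A P N₁ σ).toLinearMap ∘ₗ a.rTensor (σ →₀ N₁)) from rfl, this]
  exact hi

theorem rTensor_injective_of_fg [Module.Flat A P] {N : Type u} [AddCommGroup N] [Module A N]
    (h0 : ∀ N₀ : Submodule A N, N₀.FG → Function.Injective (a.rTensor N₀)) :
    Function.Injective (a.rTensor N) := by
  rw [injective_iff_map_eq_zero]
  intro x hx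
  obtain ⟨N₀, hfg, hx'⟩ := exists_finite_submodule_right_of_setFinite ({x} : Set (K' ⊗[A] N)) (Set.finite_singleton x)
  obtain ⟨y, rfl⟩ := hx' rfl
  rw [h0 N₀ (Module.Finite.iff_fg.mp hfg) ((?_ : a.rTensor N₀ y = 0).trans (map_zero _).symm), map_zero]
  exact Module.Flat.lTensor_preserves_injective_linearMap (M := P) N₀.subtype N₀.injective_subtype
    (by rw [comm, hx, map_zero])

section Syz

variable (A) (M : Type u) [AddCommGroup M] [Module A M]

/-- The syzygies of `M` for the standard free covers. -/
noncomputable def syz : ℕ → ModuleCat.{u} A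
  | 0 => ModuleCat.of A M
  | n + 1 => ModuleCat.of A
      (LinearMap.ker (Finsupp.linearCombination A (id : syz n → syz n)))

/-- The free cover of the `n`-th syzygy. -/
noncomputable def cover (n : ℕ) : (syz A M n →₀ A) →ₗ[A] syz A M n :=
  Finsupp.linearCombination A id

/-- The inclusion of the next syzygy. -/
noncomputable def incl (n : ℕ) : syz A M (n + 1) →ₗ[A] (syz A M n →₀ A) :=
  (LinearMap.ker (cover A M n)).subtype

theorem incl_injective (n : ℕ) : Function.Injective (incl A M n) :=
  (LinearMap.ker (cover A M n)).injective_subtype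

theorem exact_incl_cover (n : ℕ) : Function.Exact (incl A M n) (cover A M n) :=
  LinearMap.exact_subtype_ker_map _

theorem cover_surjective (n : ℕ) : Function.Surjective (cover A M n) :=
  Finsupp.linearCombination_id_surjective A _

/-- `Tor_{i+1}(M, N) = 0`. -/
def TorZero (i : ℕ) (N : Type u) [AddCommGroup N] [Module A N] : Prop :=
  Function.Injective ((incl A M i).rTensor N)

variable {A M}

theorem torZero_of_flat (i : ℕ) (N : Type u) [AddCommGroup N] [Module A N] [Module.Flat A N] :
    TorZero A M i N :=
  Module.Flat.rTensor_preserves_injective_linearMap _ (incl_injective A M i)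

theorem lTensor_succ {i : ℕ} (g : N₁ →ₗ[A] N₂) (hg : Function.Injective g)
    (h : TorZero A M i N₁) : Function.Injective (g.lTensor (syz A M (i + 1))) := by
  rw [injective_iff_map_eq_zero]
  intro x hx
  refine h ((Module.Flat.lTensor_preserves_injective_linearMap (M := syz A M i →₀ A) g hg ?_).trans
    (map_zero ((incl A M i).rTensor N₁)).symm)
  rw [comm, hx, map_zero, map_zero]

theorem torZero_left {i : ℕ} (g : N₁ →ₗ[A] N₂) (h : N₂ →ₗ[A] N₃) (hg : Function.Injective g)
    (hgh : Function.Exact g h) (hh : Function.Surjective h) (h2 : TorZero A M i N₂)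
    (h3 : TorZero A M (i + 1) N₃) : TorZero A M i N₁ := by
  have := lTensor_injective_of_rTensor _ _ g h (exact_incl_cover A M (i + 1))
    (cover_surjective A M (i + 1)) hg hgh hh h3
  intro x y hxy
  exact this (h2 (by rw [← comm, ← comm, hxy]))

theorem lTensor_syz_zero_injective (B : Type u) [CommRing B] [Algebra A B]
    [Module.Flat B (B ⊗[A] M)] [Module B N₁] [IsScalarTower A B N₁] [Module B N₂] [IsScalarTower A B N₂]
    (f : N₁ →ₗ[B] N₂) (hf : Function.Injective f) :
    Function.Injective ((f.restrictScalars A).lTensor (syz A M 0)) := by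
  have h := Groth.Agent.FlatCrit65.lTensor_injective_of_flat_baseChange (R := A) (M := M) B f hf
  exact h

theorem torZero_step (B : Type u) [CommRing B] [Algebra A B] [Module B N₁] [IsScalarTower A B N₁]
    [Module B N₂] [IsScalarTower A B N₂] [Module B N₃] [IsScalarTower A B N₃] {i : ℕ}
    (f : N₁ →ₗ[B] N₂) (q : N₂ →ₗ[B] N₃) (hfq : Function.Exact f q) (hq : Function.Surjective q)
    (h2 : TorZero A M i N₂) (h1 : Function.Injective ((f.restrictScalars A).lTensor (syz A M i))) :
    TorZero A M i N₃ :=
  rTensor_injective_right _ _ (f.restrictScalars A) (q.restrictScalars A) (exact_incl_cover A M i)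
    (cover_surjective A M i) hfq hq h2 h1

theorem torZero_of_algebra (B : Type u) [CommRing B] [Algebra A B]
    [Module.Flat B (B ⊗[A] M)] (k : ℕ) (hB : ∀ i, i < k → TorZero A M i B) :
    ∀ (i : ℕ), i < k → ∀ (N : Type u) [AddCommGroup N] [Module A N] [Module B N] [IsScalarTower A B N],
      TorZero A M i N := by
  intro i
  induction i with
  | zero =>
    intro hi N _ _ _ _
    let q : (N →₀ B) →ₗ[B] N := Finsupp.linearCombination B id
    exact torZero_step (N₁ := LinearMap.ker q) B (LinearMap.ker q).subtype q
      (LinearMap.exact_subtype_ker_map q) (Finsupp.linearCombination_id_surjective B N)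
      (rTensor_injective_finsupp _ N (hB 0 hi)) (by
        have hh := lTensor_syz_zero_injective (A := A) (M := M) (N₁ := LinearMap.ker q) (N₂ := N →₀ B) B (LinearMap.ker q).subtype (LinearMap.ker q).injective_subtype
        exact hh)
  | succ i ih =>
    intro hi N _ _ _ _
    let q : (N →₀ B) →ₗ[B] N := Finsupp.linearCombination B id
    exact torZero_step (N₁ := LinearMap.ker q) B (LinearMap.ker q).subtype q
      (LinearMap.exact_subtype_ker_map q) (Finsupp.linearCombination_id_surjective B N)
      (rTensor_injective_finsupp _ N (hB (i + 1) hi))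
      (lTensor_succ (N₁ := LinearMap.ker q) _ (LinearMap.ker q).injective_subtype
        (ih (by omega) (LinearMap.ker q)))

theorem isZero_tor_syz (S : ModuleCat.{u} A) : ∀ (i j : ℕ),
    IsZero (((Tor (ModuleCat.{u} A) (i + j + 1)).obj (ModuleCat.of A M)).obj S) →
    IsZero (((Tor (ModuleCat.{u} A) (j + 1)).obj (syz A M i)).obj S)
  | 0, j, h => by rwa [Nat.zero_add] at h
  | i + 1, j, h => by
    have := isZero_tor_syz S i (j + 1) (by rwa [show i + (j + 1) = i + 1 + j by omega])
    exact Groth.Agent.TorBal94.isZero_tor_left (incl A M i) (cover A M i) (incl_injective A M i)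
      (exact_incl_cover A M i) (cover_surjective A M i) S (j + 1)
      (Groth.Agent.TorBal94.isZero_tor_of_flat_left _ S j) this

theorem torZero_quotient_of_isZero_tor (I : Ideal A) (i : ℕ)
    (h : IsZero (((Tor (ModuleCat.{u} A) (i + 1)).obj (ModuleCat.of A M)).obj (ModuleCat.of A (A ⧸ I)))) :
    TorZero A M i (A ⧸ I) := by
  have h1 := isZero_tor_syz (ModuleCat.of A (A ⧸ I)) i 0 h
  have h2 := (Groth.Agent.TorMod7.isZero_tor_one_iff_of_surjective (syz A M i) I.mkQ
    I.mkQ_surjective).mp h1
  exact rTensor_injective_right _ _ (LinearMap.ker I.mkQ).subtype I.mkQ (exact_incl_cover A M i)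
    (cover_surjective A M i) (LinearMap.exact_subtype_ker_map _) I.mkQ_surjective
    (torZero_of_flat i A) h2

theorem torZero_of_pow_smul (I : Ideal A) [Module.Flat (A ⧸ I) ((A ⧸ I) ⊗[A] M)] (i : ℕ)
    (hI : ∀ j, j < i + 1 → TorZero A M j (A ⧸ I)) :
    ∀ (n : ℕ) (N : Type u) [AddCommGroup N] [Module A N], I ^ n • (⊤ : Submodule A N) = ⊥ →
      TorZero A M i N
  | 0, N, _, _, h => by
    rw [pow_zero, Ideal.one_eq_top, Submodule.top_smul] at h
    have : Subsingleton N := (Submodule.subsingleton_iff A).mp (subsingleton_of_top_le_bot h.le)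
    exact torZero_of_flat i N
  | n + 1, N, _, _, h => by
    let IN : Submodule A N := I • ⊤
    have h1 : TorZero A M i IN := by
      refine torZero_of_pow_smul I i hI n IN ?_
      apply Submodule.map_injective_of_injective IN.injective_subtype
      rw [Submodule.map_smul'', Submodule.map_top, Submodule.range_subtype, Submodule.map_bot,
        ← Submodule.mul_smul, ← pow_succ, h]
    have hQ : Module.IsTorsionBySet A (N ⧸ IN) I := by
      intro x a
      obtain ⟨x, rfl⟩ := IN.mkQ_surjective x
      exact (Submodule.Quotient.mk_eq_zero _).mpr (Submodule.smul_mem_smul a.2 Submodule.mem_top)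
    letI : Module (A ⧸ I) (N ⧸ IN) := hQ.module
    haveI : IsScalarTower A (A ⧸ I) (N ⧸ IN) := hQ.isScalarTower
    exact rTensor_injective_middle _ IN.subtype IN.mkQ IN.injective_subtype
      (LinearMap.exact_subtype_mkQ IN) IN.mkQ_surjective h1
      (torZero_of_algebra (A ⧸ I) (i + 1) hI i (by omega) (N ⧸ IN))

variable {r : ℕ} (f : Fin r → A)

theorem torZero_of_torsion_all [Module.Flat (A ⧸ Ideal.span (Set.range f)) ((A ⧸ Ideal.span (Set.range f)) ⊗[A] M)]
    (i : ℕ) (hI : ∀ j, j < i + 1 → TorZero A M j (A ⧸ Ideal.span (Set.range f)))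
    (N : Type u) [AddCommGroup N] [Module A N] (hN : ∀ x : N, ∀ j, ∃ n : ℕ, f j ^ n • x = 0) :
    TorZero A M i N := by
  refine rTensor_injective_of_fg _ fun N₀ hfg => ?_
  obtain ⟨s, hs⟩ := hfg
  have hrad : Ideal.span (Set.range f) ≤ (Module.annihilator A N₀).radical := by
    rw [Ideal.span_le]
    rintro _ ⟨j, rfl⟩
    choose n hn using fun x => hN x j
    refine ⟨s.sup n, Module.mem_annihilator.mpr fun x => Subtype.ext ?_⟩
    have hle : N₀ ≤ LinearMap.ker (LinearMap.lsmul A N (f j ^ s.sup n)) := by
      rw [← hs, Submodule.span_le]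
      intro y hy
      obtain ⟨c, hc⟩ := Nat.exists_eq_add_of_le (Finset.le_sup (f := n) hy)
      simp only [SetLike.mem_coe, LinearMap.mem_ker, LinearMap.lsmul_apply]
      rw [hc, add_comm, pow_add, mul_smul, hn, smul_zero]
    exact hle x.2
  obtain ⟨n, hn⟩ := Ideal.exists_pow_le_of_le_radical_of_fg hrad
    (Submodule.fg_span (Set.finite_range f))
  refine torZero_of_pow_smul _ i hI n N₀ (eq_bot_iff.mpr (Submodule.smul_le.mpr fun a ha x _ => ?_))
  rw [Submodule.mem_bot]
  exact Module.mem_annihilator.mp (hn ha) x

theorem flat_of_localization_quotient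
    (h1 : ∀ j, Module.Flat (Localization.Away (f j)) (LocalizedModule (Submonoid.powers (f j)) M))
    (h2 : Module.Flat (A ⧸ Ideal.span (Set.range f)) ((A ⧸ Ideal.span (Set.range f)) ⊗[A] M))
    (h3 : ∀ i, i < r + 1 → TorZero A M i (A ⧸ Ideal.span (Set.range f))) : Module.Flat A M := by
  have key : ∀ (d : ℕ) (S : Finset (Fin r)), Sᶜ.card ≤ d → ∀ (i : ℕ), i + d ≤ r →
      ∀ (N : Type u) [AddCommGroup N] [Module A N], (∀ x : N, ∀ j ∈ S, ∃ n : ℕ, f j ^ n • x = 0) →
      TorZero A M i N := by
    intro d
    induction d with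
    | zero =>
      intro S hS i hi N _ _ hN
      have hS' : S = Finset.univ := by simpa using hS
      exact torZero_of_torsion_all f i (fun j hj => h3 j (by omega)) N fun x j =>
        hN x j (hS' ▸ Finset.mem_univ j)
    | succ d ih =>
      intro S hS i hi N _ _ hN
      by_cases hS' : S = Finset.univ
      · exact torZero_of_torsion_all f i (fun j hj => h3 j (by omega)) N fun x j =>
          hN x j (hS' ▸ Finset.mem_univ j)
      · obtain ⟨j, hj⟩ : ∃ j, j ∉ S := by
          by_contra hne
          exact hS' (Finset.eq_univ_iff_forall.mpr (not_exists_not.mp hne))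
        have hcard : (insert j S)ᶜ.card ≤ d := by
          rw [Finset.compl_insert, Finset.card_erase_of_mem (Finset.mem_compl.mpr hj)]
          omega
        let ℓ := LocalizedModule.mkLinearMap (Submonoid.powers (f j)) N
        have hloc : ∀ x : LocalizedModule (Submonoid.powers (f j)) N, ∃ (n : ℕ) (y : N),
            f j ^ n • x = ℓ y := by
          intro x
          obtain ⟨⟨y, ⟨_, n, rfl⟩⟩, hy⟩ :=
            IsLocalizedModule.surj (Submonoid.powers (f j)) ℓ x
          exact ⟨n, y, hy⟩
        have hC : TorZero A M (i + 1) (LocalizedModule (Submonoid.powers (f j)) N ⧸ LinearMap.range ℓ) := by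
          refine ih (insert j S) hcard (i + 1) (by omega) _ fun x k hk => ?_
          obtain ⟨x, rfl⟩ := (LinearMap.range ℓ).mkQ_surjective x
          obtain ⟨n, y, hy⟩ := hloc x
          rcases Finset.mem_insert.mp hk with rfl | hk
          · exact ⟨n, (Submodule.Quotient.mk_eq_zero _).mpr ⟨y, hy.symm⟩⟩
          · obtain ⟨m, hm⟩ := hN y k hk
            refine ⟨m, ?_⟩
            have hunit := IsLocalizedModule.map_units ℓ (⟨_, n, rfl⟩ : Submonoid.powers (f j))
            have : f k ^ m • x = 0 := by
              apply ((Module.End.isUnit_iff _).mp hunit).1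
              simp only [Module.algebraMap_end_apply, smul_zero]
              rw [smul_comm, hy, ← map_smul, hm, map_zero]
            rw [← map_smul, this, map_zero]
        have hker : TorZero A M i (LinearMap.ker ℓ) := by
          refine ih (insert j S) hcard i (by omega) _ fun x k hk => ?_
          rcases Finset.mem_insert.mp hk with rfl | hk
          · obtain ⟨⟨_, n, rfl⟩, hn⟩ :=
              (IsLocalizedModule.eq_zero_iff (Submonoid.powers (f k)) ℓ).mp x.2
            exact ⟨n, Subtype.ext hn⟩
          · obtain ⟨m, hm⟩ := hN x k hk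
            exact ⟨m, Subtype.ext hm⟩
        have hflatB : Module.Flat A (Localization.Away (f j)) :=
          IsLocalization.flat _ (Submonoid.powers (f j))
        have : Module.Flat (Localization.Away (f j)) (Localization.Away (f j) ⊗[A] M) := by
          have := h1 j
          exact Module.Flat.of_linearEquiv
            ((LocalizedModule.equivTensorProduct (Submonoid.powers (f j)) M)).symm
        have hN' : TorZero A M i (LocalizedModule (Submonoid.powers (f j)) N) :=
          torZero_of_algebra (Localization.Away (f j)) (i + 1) (fun l _ => torZero_of_flat l _) i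
            (by omega) _
        exact rTensor_injective_middle _ (LinearMap.ker ℓ).subtype ℓ.rangeRestrict
          (LinearMap.ker ℓ).injective_subtype (by rw [LinearMap.exact_iff, Submodule.range_subtype, LinearMap.ker_rangeRestrict])
          ℓ.surjective_rangeRestrict hker
          (torZero_left (LinearMap.range ℓ).subtype (LinearMap.range ℓ).mkQ
            (Submodule.injective_subtype _) (LinearMap.exact_subtype_mkQ _)
            (Submodule.mkQ_surjective _) hN' hC)
  rw [Module.Flat.iff_lTensor_injective']
  intro J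
  exact lTensor_injective_of_rTensor (incl A M 0) (cover A M 0) J.subtype J.mkQ
    (exact_incl_cover A M 0) (cover_surjective A M 0) J.injective_subtype
    (LinearMap.exact_subtype_mkQ J) J.mkQ_surjective
    (key r ∅ (by simp) 0 (by omega) (A ⧸ J) (by simp))

end Syz

end Groth.Agent.FlatTor3
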